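import Cfsg.Agent.H436.Simple
import Cfsg.Agent.H807.Dg.Names
import Cfsg.Agent.H884.CxBd
import Cfsg.Agent.H189.FeitTits
import Cfsg.Agent.H759.Af.Dvd

/-!
# C7 of the hub BR: a large simple section of `PGL_n` in characteristic `p` is of Lie type in characteristic `p`
-/

set_option autoImplicit false

universe u w

namespace Cfsg.Agent.H601.BR

open Cfsg Cfsg.Agent.OrdDiv Cfsg.Agent.H436 Cfsg.Agent.H927.SgX Cfsg.Agent.H915.GN Cfsg.Agent.H807.Dg
open Cfsg.Agent.H884.Cx (excM lb lb_le)

private theorem exists_char_of {q : ℕ} (h : IsPrimePow q) : ∃ s, s.Prime ∧ ∃ f, q = s ^ f := by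
  obtain ⟨s, f, hs, -, h⟩ := (isPrimePow_nat_iff q).1 h
  exact ⟨s, hs, f, h.symm⟩

/-- a name of Lie type has a characteristic -/
private theorem exists_char {g : Grp} (hg : Cond g) (hlie : IsLieN g) : ∃ s, s.Prime ∧ HasChar s g := by
  cases g with
  | psl n q => exact exists_char_of hg.2.2
  | psp n q => exact exists_char_of hg.2.2
  | psu n q => exact exists_char_of hg.2.2
  | oodd n q => exact exists_char_of hg.2.2
  | oplus n q => exact exists_char_of hg.2
  | ominus n q => exact exists_char_of hg.2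
  | g2 q => exact exists_char_of hg.2
  | f4 q => exact exists_char_of hg
  | e6 q => exact exists_char_of hg
  | e7 q => exact exists_char_of hg
  | e8 q => exact exists_char_of hg
  | te6 q => exact exists_char_of hg
  | td4 q => exact exists_char_of hg
  | sz q => obtain ⟨m, -, h⟩ := hg; exact ⟨2, Nat.prime_two, _, h⟩
  | ree q => obtain ⟨m, -, h⟩ := hg; exact ⟨3, Nat.prime_three, _, h⟩
  | tf4 q => obtain ⟨m, -, h⟩ := hg; exact ⟨2, Nat.prime_two, _, h⟩
  | _ => exact hlie.elim

/-- the three kinds of names -/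
private theorem name_cases (g : Grp) : (∃ m, g = .alt m) ∨ (∃ x ∈ spor, x.1 = g) ∨ IsLieN g := by
  cases g with
  | alt m => exact .inl ⟨m, rfl⟩
  | psl n q => exact .inr (.inr trivial)
  | psp n q => exact .inr (.inr trivial)
  | psu n q => exact .inr (.inr trivial)
  | oodd n q => exact .inr (.inr trivial)
  | oplus n q => exact .inr (.inr trivial)
  | ominus n q => exact .inr (.inr trivial)
  | g2 q => exact .inr (.inr trivial)
  | f4 q => exact .inr (.inr trivial)
  | e6 q => exact .inr (.inr trivial)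
  | e7 q => exact .inr (.inr trivial)
  | e8 q => exact .inr (.inr trivial)
  | te6 q => exact .inr (.inr trivial)
  | td4 q => exact .inr (.inr trivial)
  | sz q => exact .inr (.inr trivial)
  | ree q => exact .inr (.inr trivial)
  | tf4 q => exact .inr (.inr trivial)
  | _ => exact .inr (.inl (by simp only [spor, List.mem_cons, exists_eq_or_imp, true_or, or_true, reduceCtorEq,
      false_or]))

/-- the degree of an alternating section of a linear group -/
private theorem alt_bound {n : ℕ} {F : Type u} [Field F] [Finite F] (P : Subgroup (Matrix.GeneralLinearGroup (Fin n) F))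
    (K : Subgroup P) [K.Normal] {m : ℕ} (hm : 9 ≤ m) (e : P ⧸ K ≃* alternatingGroup (Fin m)) :
    m ≤ n + 2 := by
  obtain ⟨p, hp⟩ := CharP.exists F
  have h1 := Cfsg.Agent.H189.FeitTits.feit_tits p (V := Fin n → F) hm (e.toMonoidHom.comp (QuotientGroup.mk' K))
    (e.surjective.comp (QuotientGroup.mk'_surjective K))
    (((Matrix.toLinAlgEquiv' : Matrix (Fin n) (Fin n) F ≃ₐ[F] _).toAlgHom.toRingHom.toMonoidHom.comp
      (Units.coeHom (Matrix (Fin n) (Fin n) F))).comp P.subtype) ?_
  · rw [Module.finrank_fintype_fun_eq_card, Fintype.card_fin] at h1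
    split_ifs at h1 <;> omega
  · intro g hg
    have h2 : g = 1 := Subtype.ext (((Matrix.toLinAlgEquiv' : Matrix (Fin n) (Fin n) F ≃ₐ[F] _).injective.comp
      Units.val_injective)
        (by rw [← map_one ((Matrix.toLinAlgEquiv' : Matrix (Fin n) (Fin n) F ≃ₐ[F] _))] at hg; exact hg))
    rw [h2, map_one]

/-- **C7: large `T` is of Lie type in characteristic `p`** -/
theorem big_lie (n : ℕ) : ∃ B : ℕ, ∀ (p : ℕ) (_ : p.Prime) (E : Type u) [Field E] [Finite E] [CharP E p]
    (T : Type w) [Group T] [Finite T] [IsSimpleGroup T], ¬ IsMulCommutative T → B ≤ Nat.card T →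
    ∀ P : Subgroup (Matrix.GeneralLinearGroup (Fin n) E), ⁅P, P⁆ = P →
    Nonempty ((P ⧸ (Cfsg.Geo.scalars (Fin n) E).subgroupOf P) ≃* T) → Cfsg.IsLieTypeChar p T := by
  refine ⟨bndS n + 1, ?_⟩
  intro p hp E _ _ _ T _ _ _ hna hB P hP ⟨e⟩
  obtain ⟨g, hg⟩ := name hna
  have hin : g ∈ names (2 * n + 10) → Cfsg.IsLieTypeChar p T := by
    intro h
    exfalso
    have h2 : bndS n = (names (2 * n + 10)).sup ordN := by unfold bndS; rfl
    have h3 : ordN g ≤ (names (2 * n + 10)).sup ordN := Finset.le_sup h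
    rw [← h2, ← hg.ord] at h3
    omega
  rcases name_cases g with ⟨m, rfl⟩ | hsp | hlie
  · obtain ⟨e1⟩ := hg.real
    refine hin (mem_alt ?_)
    by_cases h9 : 9 ≤ m
    · have := alt_bound P _ h9 (e.trans e1)
      omega
    · omega
  · exact hin (mem_spor hsp)
  · obtain ⟨s, hs, hch⟩ := exists_char hg.cond hlie
    by_cases hsp : s = p
    · subst hsp
      exact Cfsg.Agent.H759.Af.isLieTypeChar_of_name hp hg.cond hch hg.real
    by_cases hM : g ∈ excM
    · exact hin (mem_excM hM)
    have hex : ∃ x y : T, x * y ≠ y * x := by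
      by_contra h
      push Not at h
      exact hna ⟨⟨h⟩⟩
    have h5 := lb_le hg.cond hs hch hex hg.real (F := E) ?_ P hP e
    · unfold lb at h5
      rw [if_neg hM] at h5
      exact hin (mem_names hg.cond hlie h5)
    · intro h0
      have h1 : p ∣ s := (CharP.cast_eq_zero_iff E p s).1 h0
      exact hsp ((Nat.prime_dvd_prime_iff_eq hp hs).1 h1).symm

end Cfsg.Agent.H601.BR
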