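import Cfsg.Agent.H601.BR.SpW

/-!
# HUB BR, family `Sp_{2m}(2^f)`: T3, `ext_V`
-/

set_option autoImplicit false

namespace Cfsg.Agent.H601.BR

open Cfsg.Agent.H883.BR Cfsg.Agent.H94.BR

/-- a `2`-group acting on a nonzero finite additive group of exponent `2` fixes a nonzero element -/
theorem exists_fix {G E : Type*} [Group G] [AddCommGroup E] (A : AddSubgroup E) [Finite A] {U : Subgroup G}
    (hU : IsPGroup 2 U) (τ : G → E → E) (h1 : ∀ x, τ 1 x = x) (hm : ∀ g h x, τ (g * h) x = τ g (τ h x))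
    (h0 : ∀ g, τ g 0 = 0) (hA : ∀ g ∈ U, ∀ x ∈ A, τ g x ∈ A) (h2 : ∀ x ∈ A, x + x = 0) (hne : ∃ x ∈ A, x ≠ 0) :
    ∃ x ∈ A, x ≠ 0 ∧ ∀ g ∈ U, τ g x = x := by
  let act : MulAction U A :=
    { smul := fun g x => ⟨τ g x, hA g g.2 x x.2⟩
      one_smul := fun x => Subtype.ext (h1 x)
      mul_smul := fun g h x => Subtype.ext (hm g h x) }
  have hs : ∀ (g : U) (x : A), ((g • x : A) : E) = τ g x := fun g x => rfl
  obtain ⟨a, ha, hane⟩ := hne
  have hcard : 2 ∣ Nat.card A := by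
    have h3 : addOrderOf (⟨a, ha⟩ : A) = 2 := by
      refine addOrderOf_eq_prime (Subtype.ext ?_) fun h => hane (congrArg Subtype.val h)
      rw [two_nsmul]
      exact h2 a ha
    rw [← h3]
    exact addOrderOf_dvd_natCard _
  obtain ⟨x, hx, hx0⟩ := hU.exists_fixed_point_of_prime_dvd_card_of_fixed_point A hcard (a := 0)
    (fun g => Subtype.ext ((hs g 0).trans (h0 g)))
  refine ⟨x, x.2, fun h => hx0 (Subtype.ext h.symm), fun g hg => ?_⟩
  have := congrArg Subtype.val (hx ⟨g, hg⟩)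
  exact this

/-- a central involution of a nontrivial `2`-group -/
theorem exists_inv {G : Type*} [Group G] [Finite G] {U : Subgroup G} (hU : IsPGroup 2 U) (hne : U ≠ ⊥) :
    ∃ z ∈ U, z ≠ 1 ∧ z * z = 1 ∧ ∀ u ∈ U, u * z = z * u := by
  have hnt : Nontrivial U := (Subgroup.nontrivial_iff_ne_bot U).2 hne
  have h1 : Nontrivial (Subgroup.center U) := hU.center_nontrivial
  have h2 : IsPGroup 2 (Subgroup.center U) := hU.to_subgroup _
  obtain ⟨k, hk⟩ := h2.exists_card_eq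
  have h3 : 2 ∣ Nat.card (Subgroup.center U) := by
    rw [hk]
    refine dvd_pow_self 2 ?_
    rintro rfl
    rw [pow_zero] at hk
    have := Finite.one_lt_card (α := Subgroup.center U)
    omega
  obtain ⟨z, hz⟩ := exists_prime_orderOf_dvd_card' 2 h3
  refine ⟨((z : U) : G), (z : U).2, fun h => ?_, ?_, fun u hu => ?_⟩
  · have h4 : z = 1 := Subtype.ext (Subtype.ext h)
    rw [h4, orderOf_one] at hz
    omega
  · have h4 : z ^ 2 = 1 := by rw [← hz, pow_orderOf_eq_one]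
    rw [pow_two] at h4
    exact congrArg (fun y : Subgroup.center U => ((y : U) : G)) h4
  · exact congrArg Subtype.val (Subgroup.mem_center_iff.1 z.2 ⟨u, hu⟩)

variable {m q : ℕ} {K : Type} [Field K] {F : Subfield K} {V : Type} [AddCommGroup V] [Module K V]
  {B : LinearMap.BilinForm K V} {G : Type} [Group G] {ρ : G →* Module.End K V}
  {b : Module.Basis (Fin m ⊕ Fin m) K V}

/-- rational vectors -/
def ratV (b : Module.Basis (Fin m ⊕ Fin m) K V) (F : Subfield K) : AddSubgroup V where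
  carrier := {v | ∀ i, b.repr v i ∈ F}
  zero_mem' := fun i => by
    rw [map_zero, Finsupp.zero_apply]
    exact F.zero_mem
  add_mem' := fun {x y} hx hy i => by
    rw [map_add, Finsupp.add_apply]
    exact F.add_mem (hx i) (hy i)
  neg_mem' := fun {x} hx i => by
    rw [map_neg, Finsupp.neg_apply]
    exact F.neg_mem (hx i)

theorem mem_ratV {v : V} : v ∈ ratV b F ↔ ∀ i, b.repr v i ∈ F := Iff.rfl

instance [Finite F] : Finite (ratV b F) :=
  Finite.of_injective (fun v : ratV b F => fun i => (⟨b.repr v i, v.2 i⟩ : F)) fun _ _ h =>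
    Subtype.ext (b.ext_elem fun i => congrArg Subtype.val (congrFun h i))

theorem smul_mem_ratV {c : K} (hc : c ∈ F) {v : V} (hv : v ∈ ratV b F) : c • v ∈ ratV b F := fun i => by
  rw [map_smul, Finsupp.smul_apply, smul_eq_mul]
  exact F.mul_mem hc (hv i)

theorem basis_mem_ratV (j : Fin m ⊕ Fin m) : b j ∈ ratV b F := fun i => by
  classical
  rw [b.repr_self, Finsupp.single_apply]
  split_ifs
  · exact F.one_mem
  · exact F.zero_mem

theorem rho_mem_ratV (D : SpD m q F B ρ b) (g : G) {v : V} (hv : v ∈ ratV b F) : ρ g v ∈ ratV b F := fun i => by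
  rw [← b.sum_repr v, map_sum, map_sum, Finsupp.finsetSum_apply]
  refine F.sum_mem fun j _ => ?_
  rw [map_smul, map_smul, Finsupp.smul_apply, smul_eq_mul]
  exact F.mul_mem (hv j) (D.rat g i j)

theorem wd_add (v x y : V) : wd B v (x + y) = wd B v x + wd B v y := by
  refine LinearMap.ext fun z => ?_
  rw [LinearMap.add_apply, wd_apply, wd_apply, wd_apply, map_add, LinearMap.add_apply, add_smul, smul_add]
  abel

/-- `x ↦ v ∧ x` -/
def wdHom (B : LinearMap.BilinForm K V) (v : V) : V →+ Module.End K V := AddMonoidHom.mk' (wd B v) (wd_add v)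

theorem exists_ne (D : SpD m q F B ρ b) {v : V} (hv : v ≠ 0) : ∃ x, B v x ≠ 0 := by
  by_contra h
  push Not at h
  exact hv (sp_nd D h)

/-- `v ∧ w = 0` only if `w ∈ K v` -/
theorem mem_of_wd (D : SpD m q F B ρ b) {v w : V} (hv : v ≠ 0) (h : wd B v w = 0) : ∃ c : K, w = c • v := by
  obtain ⟨x, hx⟩ := exists_ne D hv
  have h1 := LinearMap.congr_fun h x
  rw [wd_apply, LinearMap.zero_apply] at h1
  refine ⟨(B v x)⁻¹ * -(B w x), ?_⟩
  rw [mul_smul, neg_smul, ← eq_neg_of_add_eq_zero_right h1, smul_smul, inv_mul_cancel₀ hx, one_smul]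

/-- a rational vector in `v ^ ⊥` outside `K v` -/
theorem exists_rat_perp (D : SpD m q F B ρ b) {v : V} (hr : v ∈ ratV b F) (hv : v ≠ 0) :
    ∃ w ∈ ratV b F, B v w = 0 ∧ ¬ ∃ c : K, w = c • v := by
  classical
  have h2 := D.two_le
  have hB : ∀ i, B v (b i) ∈ F := by
    rintro (i | i)
    · rw [← sp_repr_inr D]
      exact hr _
    · rw [← sp_repr_inl D]
      exact hr _
  obtain ⟨j, hj⟩ : ∃ j, B v (b j) ≠ 0 := by
    by_contra h
    push Not at h
    refine hv (b.ext_elem fun i => ?_)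
    rw [map_zero, Finsupp.zero_apply]
    rcases i with i | i
    · rw [sp_repr_inl D, h]
    · rw [sp_repr_inr D, h]
  obtain ⟨k, hk, l, hl, hkl⟩ : ∃ k ∈ Finset.univ.erase j, ∃ l ∈ Finset.univ.erase j, k ≠ l := by
    refine Finset.one_lt_card.1 ?_
    rw [Finset.card_erase_of_mem (Finset.mem_univ j), Finset.card_univ, Fintype.card_sum, Fintype.card_fin]
    omega
  have hkj := Finset.ne_of_mem_erase hk
  have hlj := Finset.ne_of_mem_erase hl
  let x : Fin m ⊕ Fin m → V := fun k => B v (b k) • b j - B v (b j) • b k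
  have hxr : ∀ k, x k ∈ ratV b F := fun k =>
    (ratV b F).sub_mem (smul_mem_ratV (hB _) (basis_mem_ratV j)) (smul_mem_ratV (hB _) (basis_mem_ratV k))
  have hxB : ∀ k, B v (x k) = 0 := fun k => by
    change B v (B v (b k) • b j - B v (b j) • b k) = 0
    rw [map_sub, map_smul, map_smul, smul_eq_mul, smul_eq_mul]
    ring
  by_cases h1 : ∃ c : K, x k = c • v
  · refine ⟨x l, hxr l, hxB l, ?_⟩
    rintro ⟨d, hd⟩
    obtain ⟨c, hc⟩ := h1
    have e1 := congrArg (fun y => b.repr y k) hc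
    have e2 := congrArg (fun y => b.repr y l) hc
    have e3 := congrArg (fun y => b.repr y l) hd
    simp only [x, map_sub, map_smul, Finsupp.sub_apply, Finsupp.smul_apply, b.repr_self, Finsupp.single_apply,
      smul_eq_mul, hkj.symm, hlj.symm, hkl, if_false, if_true, mul_zero, mul_one, zero_sub, sub_zero] at e1 e2 e3
    have hc0 : c ≠ 0 := by
      rintro rfl
      rw [zero_mul, neg_eq_zero] at e1
      exact hj e1
    have h3 : b.repr v l = 0 := (mul_eq_zero.1 e2.symm).resolve_left hc0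
    rw [h3, mul_zero, neg_eq_zero] at e3
    exact hj e3
  · exact ⟨x k, hxr k, hxB k, h1⟩

/-- representing a linear form -/
theorem exists_rep (D : SpD m q F B ρ b) (f : V →ₗ[K] K) : ∃ u, ∀ x, B u x = f x := by
  refine ⟨b.equivFun.symm (Sum.elim (fun i => f (b (Sum.inr i))) fun i => f (b (Sum.inl i))), fun x => ?_⟩
  have h : B (b.equivFun.symm (Sum.elim (fun i => f (b (Sum.inr i))) fun i => f (b (Sum.inl i)))) = f := by
    refine b.ext fun j => ?_
    rcases j with j | j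
    · rw [← sp_repr_inr D, ← Module.Basis.equivFun_apply, LinearEquiv.apply_symm_apply, Sum.elim_inr]
    · rw [← sp_repr_inl D, ← Module.Basis.equivFun_apply, LinearEquiv.apply_symm_apply, Sum.elim_inl]
  rw [h]

/-- the central involutions: `ρ z = 1 + X`, `B (x, X x) = B (u, x) ^ 2` with `u` fixed by `U` -/
theorem exists_root (D : SpD m q F B ρ b) {U : Subgroup G} {z : G} (hz2 : z * z = 1) (hzu : ∀ u ∈ U, u * z = z * u) :
    ∃ u : V, (∀ g ∈ U, ρ g u = u) ∧ ∀ x, B x (ρ z x) = B u x ^ 2 := by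
  have := D.char
  have := D.closed
  have h2 := sp_two D
  have hzz : z⁻¹ = z := inv_eq_of_mul_eq_one_left hz2
  have hadd : ∀ x y, B (x + y) (ρ z (x + y)) = B x (ρ z x) + B y (ρ z y) := by
    intro x y
    have h3 : B y (ρ z x) = B x (ρ z y) := by
      conv_lhs => rw [← hzz, sp_adj D, sp_swap D]
    simp only [map_add, LinearMap.add_apply]
    linear_combination h3 + (B x (ρ z y)) * h2
  have hsm : ∀ (c : K) x, B (c • x) (ρ z (c • x)) = c ^ 2 * B x (ρ z x) := by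
    intro c x
    simp only [map_smul, LinearMap.smul_apply, smul_eq_mul]
    ring
  let s : K ≃+* K := frobeniusEquiv K 2
  have hs : ∀ c, s c = c ^ 2 := fun c => frobeniusEquiv_apply K 2 c
  let f : V →ₗ[K] K :=
    { toFun := fun x => s.symm (B x (ρ z x))
      map_add' := fun x y => by rw [hadd, map_add]
      map_smul' := fun c x => by
        rw [hsm, map_mul, ← hs, RingEquiv.symm_apply_apply, RingHom.id_apply, smul_eq_mul] }
  obtain ⟨u, hu⟩ := exists_rep D f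
  have hq : ∀ x, B x (ρ z x) = B u x ^ 2 := fun x => by
    rw [hu, ← hs]
    exact (s.apply_symm_apply _).symm
  have hinj : ∀ a c : K, a ^ 2 = c ^ 2 → a = c := fun a c h => s.injective (by rw [hs, hs, h])
  refine ⟨u, fun g hg => ?_, hq⟩
  rw [← sub_eq_zero]
  refine sp_nd D fun x => ?_
  rw [map_sub, LinearMap.sub_apply, sub_eq_zero]
  refine hinj _ _ ?_
  rw [← sp_adj D, ← hq, ← hq]
  have h4 : ρ z (ρ g⁻¹ x) = ρ g⁻¹ (ρ z x) := by
    rw [← Module.End.mul_apply, ← Module.End.mul_apply, ← map_mul, ← map_mul, (hzu g⁻¹ (U.inv_mem hg))]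
  rw [h4, D.iso]

/-- T3 -/
theorem ext_V (D : SpD m q F B ρ b) (hnil : ∀ Y ∈ Lam B, Y * Y = 0 → Y ∈ Lam0 B) {W : Type} [AddCommGroup W]
    [Module K W] {σ : G →* Module.End K W}
    {π : Lam0 B →ₗ[K] W} (hW : WD B ρ σ π) {U : Subgroup G} (hU : IsPGroup 2 U) (hne : U ≠ ⊥) {v : V} (_ : v ≠ 0)
    (hvU : ∀ x : V, (∀ u ∈ U, ρ u x = x) ↔ ∃ c : K, x = c • v) {w : W} (_ : w ≠ 0)
    (hwU : ∀ x : W, (∀ u ∈ U, σ u x = x) ↔ ∃ c : K, x = c • w) :
    ∃ v0 v1 : V, (∀ i, b.repr v0 i ∈ F) ∧ (∀ i, b.repr v1 i ∈ F) ∧ v0 ≠ 0 ∧ B v0 v1 = 0 ∧ (¬ ∃ c : K, v1 = c • v0) ∧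
      (∀ u ∈ U, ρ u v0 = v0) ∧ (∃ Y : Lam0 B, (Y : Module.End K V) = wd B v0 v1 ∧ ∃ c : K, c ≠ 0 ∧ w = c • π Y) ∧
      ∃ z ∈ U, ∃ α ∈ F, ∃ β ∈ F, (α ≠ 0 ∨ β ≠ 0) ∧ ρ z = 1 + α • sq B v0 + β • wd B v0 v1 := by
  have := D.finF
  have := D.finG
  have := D.char
  have h2 := sp_two D
  have hm := D.two_le
  -- the vector `v0`
  obtain ⟨v0, hv0r, hv0, hv0U⟩ := exists_fix (ratV b F) hU (fun g x => ρ g x) (fun x => by simp)
    (fun g h x => by simp) (fun g => map_zero _) (fun g _ x hx => rho_mem_ratV D g hx) (fun x _ => sp_dbl D x)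
    ⟨b (Sum.inl ⟨0, by omega⟩), basis_mem_ratV _, b.ne_zero _⟩
  have hfixV : ∀ x : V, (∀ u ∈ U, ρ u x = x) → ∃ c : K, x = c • v0 := by
    intro x hx
    obtain ⟨c, hc⟩ := (hvU v0).1 hv0U
    obtain ⟨d, hd⟩ := (hvU x).1 hx
    have hc0 : c ≠ 0 := by
      rintro rfl
      exact hv0 (by rw [hc, zero_smul])
    exact ⟨d * c⁻¹, by rw [hc, smul_smul, mul_assoc, inv_mul_cancel₀ hc0, mul_one, hd]⟩
  -- the vector `v1`
  let P : AddSubgroup V := ratV b F ⊓ (LinearMap.ker (B v0)).toAddSubgroup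
  have hP : ∀ x, x ∈ P ↔ x ∈ ratV b F ∧ B v0 x = 0 := fun x => by
    rw [AddSubgroup.mem_inf, Submodule.mem_toAddSubgroup, LinearMap.mem_ker]
  have hfinP : Finite P := Finite.of_injective (fun x : P => (⟨x, ((hP x).1 x.2).1⟩ : ratV b F)) fun x y h =>
    Subtype.ext (congrArg (fun t : ratV b F => (t : V)) h)
  let A : AddSubgroup (Module.End K V) := P.map (wdHom B v0)
  have hA : ∀ X, X ∈ A ↔ ∃ x, (x ∈ ratV b F ∧ B v0 x = 0) ∧ wd B v0 x = X := fun X => by
    rw [AddSubgroup.mem_map]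
    exact exists_congr fun x => and_congr (hP x) Iff.rfl
  have hfinA : Finite A := by
    have h1 : (A : Set (Module.End K V)).Finite := by
      have h3 : (A : Set (Module.End K V)) = wdHom B v0 '' (P : Set V) := rfl
      rw [h3]
      exact (Set.toFinite (P : Set V)).image _
    exact h1.to_subtype
  obtain ⟨x0, hx0r, hx0B, hx0⟩ := exists_rat_perp D hv0r hv0
  obtain ⟨N, hNA, hN0, hNU⟩ := exists_fix A hU (fun g X => ad ρ g X) (fun X => by simp)
    (fun g h X => by simp) (fun g => map_zero _)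
    (fun g hg X hX => by
      obtain ⟨x, ⟨hx1, hx2⟩, rfl⟩ := (hA X).1 hX
      refine (hA _).2 ⟨ρ g x, ⟨rho_mem_ratV D g hx1, ?_⟩, ?_⟩
      · have h3 := D.iso g v0 x
        rw [hv0U g hg] at h3
        exact h3.trans hx2
      · rw [ad_wd D, hv0U g hg])
    (fun X _ => sp_dbl D X) ⟨wd B v0 x0, (hA _).2 ⟨x0, ⟨hx0r, hx0B⟩, rfl⟩, fun h => hx0 (mem_of_wd D hv0 h)⟩
  obtain ⟨v1, ⟨hv1r, hv1B⟩, rfl⟩ := (hA N).1 hNA
  have hv1 : ¬ ∃ c : K, v1 = c • v0 := by
    rintro ⟨c, rfl⟩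
    refine hN0 (LinearMap.ext fun x => ?_)
    rw [wd_apply, map_smul, LinearMap.smul_apply, smul_eq_mul, smul_smul, mul_comm (B v0 x) c,
      LinearMap.zero_apply]
    exact sp_dbl D _
  have hwd0 : wd B v0 v1 v0 = 0 := by
    rw [wd_apply, sp_swap D v1 v0, hv1B, D.alt, zero_smul, zero_smul, add_zero]
  let Y1 : Lam0 B := ⟨wd B v0 v1, wd_mem_lam0 hv1B⟩
  -- fixed elements of `W`
  have hfixW : ∀ Y : Lam0 B, (∀ u ∈ U, ad ρ u (Y : Module.End K V) = Y) → ∃ c : K, π Y = c • w := by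
    intro Y hY
    refine (hwU _).1 fun u hu => ?_
    rw [← hW.eqv u Y Y (hY u hu).symm]
  obtain ⟨c1, hc1⟩ := hfixW Y1 hNU
  have hc10 : c1 ≠ 0 := by
    rintro rfl
    rw [zero_smul] at hc1
    obtain ⟨c, hc⟩ := (hW.ker Y1).1 hc1
    have h3 : wd B v0 v1 = c • 1 := hc
    rw [h3, LinearMap.smul_apply, Module.End.one_apply] at hwd0
    rw [h3, (smul_eq_zero.1 hwd0).resolve_right hv0, zero_smul] at hN0
    exact hN0 rfl
  -- the central involution
  obtain ⟨z, hzU, hz1, hz2, hzu⟩ := exists_inv hU hne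
  have hzz : z⁻¹ = z := inv_eq_of_mul_eq_one_left hz2
  obtain ⟨u, huU, huq⟩ := exists_root D hz2 hzu
  obtain ⟨l, rfl⟩ := hfixV u huU
  let Y : Module.End K V := ρ z + 1 + l ^ 2 • sq B v0
  have hYa : ∀ x, Y x = ρ z x + x + (l ^ 2 * B v0 x) • v0 := fun x => by
    change ρ z x + (1 : Module.End K V) x + l ^ 2 • (sq B v0 x) = _
    rw [Module.End.one_apply, sq_apply, smul_smul]
  have hYL : Y ∈ Lam B := by
    refine ⟨fun x y => ?_, fun x => ?_⟩
    · rw [hYa, hYa]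
      have h3 : B (ρ z x) y = B x (ρ z y) := by rw [← sp_adj D, hzz]
      simp only [map_add, LinearMap.add_apply, map_smul, LinearMap.smul_apply, smul_eq_mul, sp_swap D x v0]
      linear_combination h3
    · rw [hYa]
      have h3 := huq x
      simp only [map_smul, LinearMap.smul_apply, smul_eq_mul] at h3
      simp only [map_add, LinearMap.add_apply, map_smul, LinearMap.smul_apply, smul_eq_mul, D.alt, sp_swap D (ρ z x) x]
      linear_combination h3 + (l ^ 2 * B v0 x ^ 2) * h2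
  have hzv0 : ρ z v0 = v0 := hv0U z hzU
  have hYv0 : Y v0 = 0 := by
    rw [hYa, hzv0, D.alt, mul_zero, zero_smul, add_zero]
    exact sp_dbl D v0
  have hYY : Y * Y = 0 := by
    refine LinearMap.ext fun x => ?_
    rw [Module.End.mul_apply, hYa x, map_add, map_smul, hYv0, smul_zero, add_zero, map_add, hYa, hYa,
      ← Module.End.mul_apply, ← map_mul, hz2, map_one, Module.End.one_apply]
    have h3 : B v0 (ρ z x) = B v0 x := by
      conv_lhs => rw [← hzz, sp_adj D, hzv0]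
    rw [h3, LinearMap.zero_apply]
    have h4 := sp_dbl D (x + ρ z x + (l ^ 2 * B v0 x) • v0)
    rw [← h4]
    abel
  have hYU : ∀ g ∈ U, ad ρ g Y = Y := by
    intro g hg
    change ad ρ g (ρ z + 1 + l ^ 2 • sq B v0) = ρ z + 1 + l ^ 2 • sq B v0
    rw [map_add, map_add, map_smul, ad_sq D, hv0U g hg, ad_apply, ad_apply, mul_one, ← map_mul, ← map_mul,
      ← map_mul, mul_inv_cancel, map_one, hzu g hg, mul_assoc, mul_inv_cancel, mul_one]
  let Y0 : Lam0 B := ⟨Y, hnil Y hYL hYY⟩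
  obtain ⟨c2, hc2⟩ := hfixW Y0 hYU
  obtain ⟨β, hβ⟩ : ∃ β : K, Y = β • wd B v0 v1 := by
    refine ⟨c2 * c1⁻¹, ?_⟩
    have h3 : π (Y0 - (c2 * c1⁻¹) • Y1) = 0 := by
      rw [map_sub, map_smul, hc1, hc2, smul_smul, mul_assoc, inv_mul_cancel₀ hc10, mul_one, sub_self]
    obtain ⟨s, hs⟩ := (hW.ker _).1 h3
    have h4 : Y - (c2 * c1⁻¹) • wd B v0 v1 = s • 1 := hs
    have h5 := LinearMap.congr_fun h4 v0
    rw [LinearMap.sub_apply, LinearMap.smul_apply, hwd0, smul_zero, hYv0, sub_zero, LinearMap.smul_apply,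
      Module.End.one_apply] at h5
    have h6 : s = 0 := (smul_eq_zero.1 h5.symm).resolve_right hv0
    rw [h6, zero_smul, sub_eq_zero] at h4
    exact h4
  have hρz : ρ z = 1 + l ^ 2 • sq B v0 + β • wd B v0 v1 := by
    rw [← hβ]
    change ρ z = 1 + l ^ 2 • sq B v0 + (ρ z + 1 + l ^ 2 • sq B v0)
    have h3 := sp_dbl D (1 + l ^ 2 • sq B v0 : Module.End K V)
    calc ρ z = ρ z + 0 := (add_zero _).symm
      _ = ρ z + ((1 + l ^ 2 • sq B v0) + (1 + l ^ 2 • sq B v0)) := by rw [h3]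
      _ = _ := by abel
  -- rationality
  obtain ⟨τ, hτq, hτ⟩ := sp_tau D
  have hFr : Fr b τ (ρ z) = ρ z := Fr_ext b τ fun x => fr_rho b hτ (D.rat z) x
  have hcoef : ∀ x, ((τ (l ^ 2) - l ^ 2) * B v0 x + (τ β - β) * B v1 x) • v0 + ((τ β - β) * B v0 x) • v1 = 0 := by
    intro x
    have h3 := LinearMap.congr_fun hFr x
    rw [hρz, map_add, map_add, Fr_smul, Fr_smul, Fr_sq D, Fr_wd D, fr_fix b hτ hv0r, fr_fix b hτ hv1r] at h3
    have h4 : Fr b τ 1 = 1 := Fr_ext b τ fun x => rfl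
    rw [h4] at h3
    simp only [LinearMap.add_apply, LinearMap.smul_apply, sq_apply, wd_apply, Module.End.one_apply] at h3
    have h5 : (τ (l ^ 2) • B v0 x • v0 + τ β • (B v1 x • v0 + B v0 x • v1)) -
        (l ^ 2 • B v0 x • v0 + β • (B v1 x • v0 + B v0 x • v1)) = 0 := by
      rw [sub_eq_zero]
      have h6 := h3
      rw [add_assoc, add_assoc] at h6
      exact add_left_cancel h6
    rw [← h5]
    module
  obtain ⟨x, hx⟩ := exists_ne D hv0
  have hτβ : τ β = β := by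
    by_contra h
    refine hv1 ⟨-(((τ β - β) * B v0 x)⁻¹ * ((τ (l ^ 2) - l ^ 2) * B v0 x + (τ β - β) * B v1 x)), ?_⟩
    have h3 : (τ β - β) * B v0 x ≠ 0 := mul_ne_zero (sub_ne_zero.2 h) hx
    have h4 := hcoef x
    rw [neg_smul, mul_smul, ← smul_neg, ← eq_neg_of_add_eq_zero_right h4, smul_smul, inv_mul_cancel₀ h3, one_smul]
  have hτα : τ (l ^ 2) = l ^ 2 := by
    have h4 := hcoef x
    rw [hτβ, sub_self, zero_mul, zero_mul, zero_smul, add_zero, add_zero] at h4
    have h5 := (mul_eq_zero.1 ((smul_eq_zero.1 h4).resolve_right hv0)).resolve_right hx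
    exact sub_eq_zero.1 h5
  have hmem : ∀ c : K, τ c = c → c ∈ F := fun c hc => Cfsg.Agent.H178.BR.mem_of_frob (by rw [← hτq, hc])
  refine ⟨v0, v1, hv0r, hv1r, hv0, hv1B, hv1, hv0U, ⟨Y1, rfl, c1⁻¹, inv_ne_zero hc10, ?_⟩, z, hzU, l ^ 2,
    hmem _ hτα, β, hmem _ hτβ, ?_, hρz⟩
  · rw [hc1, smul_smul, inv_mul_cancel₀ hc10, one_smul]
  · by_contra h
    push Not at h
    rw [h.1, h.2, zero_smul, zero_smul, add_zero, add_zero] at hρz
    exact hz1 (D.inj (hρz.trans (map_one ρ).symm))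

end Cfsg.Agent.H601.BR
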