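import Cfsg.Agent.H601.BR.SpW

/-!
# HUB BR, family `Sp_{2m}(2^f)`: T1a `nil_mem`, T1b `le_finrank_lam0`
-/

set_option autoImplicit false

namespace Cfsg.Agent.H601.BR

open Cfsg.Agent.H883.BR Cfsg.Agent.H94.BR

variable {m q : ℕ} {K : Type} [Field K] {F : Subfield K} {V : Type} [AddCommGroup V] [Module K V]
  {B : LinearMap.BilinForm K V} {G : Type} [Group G] {ρ : G →* Module.End K V}
  {b : Module.Basis (Fin m ⊕ Fin m) K V}

/-- one step of the induction -/
theorem nil_step (D : SpD m q F B ρ b) {Y : Module.End K V} (hY : Y ∈ Lam B) (h : Y * Y = 0) (h0 : Y ≠ 0) :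
    ∃ w w1 : V, B w w1 = 0 ∧ Y + wd B w w1 ∈ Lam B ∧ (Y + wd B w w1) * (Y + wd B w w1) = 0 ∧
      LinearMap.ker Y < LinearMap.ker (Y + wd B w w1) := by
  have hsq : ∀ x, Y (Y x) = 0 := fun x => by
    rw [← Module.End.mul_apply, h, LinearMap.zero_apply]
  obtain ⟨v, hv⟩ : ∃ v, Y v ≠ 0 := by
    by_contra hn
    push Not at hn
    exact h0 (LinearMap.ext hn)
  obtain ⟨v2, hv2⟩ : ∃ x, B (Y v) x ≠ 0 := by
    by_contra hn
    push Not at hn
    exact hv (sp_nd D hn)
  obtain ⟨v1, hv1⟩ : ∃ v1, B (Y v) v1 = 1 :=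
    ⟨(B (Y v) v2)⁻¹ • v2, by rw [map_smul, smul_eq_mul, inv_mul_cancel₀ hv2]⟩
  have hadj : ∀ x y, B (Y x) y = B x (Y y) := hY.1
  have hww : B (Y v) (Y v1) = 0 := by rw [hadj, hsq, map_zero]
  have hww' : B (Y v1) (Y v) = 0 := by rw [hadj, hsq, map_zero]
  have hZ : ∀ x, (Y + wd B (Y v) (Y v1)) x = Y x + (B (Y v1) x • Y v + B (Y v) x • Y v1) := fun x => rfl
  refine ⟨Y v, Y v1, hww, (Lam B).add_mem hY (wd_mem_Lam D _ _), LinearMap.ext fun x => ?_, ?_⟩
  · have e1 : B (Y v1) (Y x) = 0 := by rw [hadj, hsq, map_zero]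
    have e2 : B (Y v) (Y x) = 0 := by rw [hadj, hsq, map_zero]
    rw [Module.End.mul_apply, hZ x, hZ, map_add, map_add, map_smul, map_smul, hsq, hsq, hsq]
    simp only [map_add, map_smul, e1, e2, D.alt, hww, hww', smul_zero, zero_smul, add_zero,
      LinearMap.zero_apply]
  · refine lt_of_le_of_ne (fun x hx => ?_) fun he => ?_
    · rw [LinearMap.mem_ker] at hx ⊢
      rw [hZ, hadj, hadj, hx, map_zero, map_zero, zero_smul, zero_smul, add_zero, add_zero]
    · have hvk : v ∈ LinearMap.ker (Y + wd B (Y v) (Y v1)) := by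
        rw [LinearMap.mem_ker, hZ]
        have e1 : B (Y v1) v = 1 := by rw [hadj, sp_swap D, hv1]
        have e2 : B (Y v) v = 0 := hY.2 v
        rw [e1, e2, one_smul, zero_smul, add_zero]
        exact sp_dbl D _
      rw [← he, LinearMap.mem_ker] at hvk
      exact hv hvk

/-- **T1a** -/
theorem nil_mem (D : SpD m q F B ρ b) {Y : Module.End K V} (hY : Y ∈ Lam B) (h : Y * Y = 0) : Y ∈ Lam0 B := by
  have hfd := V_fd b
  suffices key : ∀ n : ℕ, ∀ Y : Module.End K V, Y ∈ Lam B → Y * Y = 0 →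
      Module.finrank K V - Module.finrank K (LinearMap.ker Y) = n → Y ∈ Lam0 B from key _ Y hY h rfl
  intro n
  induction n using Nat.strong_induction_on with
  | _ n ih =>
    intro Y hY h hn
    by_cases h0 : Y = 0
    · rw [h0]
      exact (Lam0 B).zero_mem
    · obtain ⟨w, w1, hw, hY', h', hlt⟩ := nil_step D hY h h0
      have h1 := Submodule.finrank_lt_finrank_of_lt hlt
      have h2 := Submodule.finrank_le (LinearMap.ker (Y + wd B w w1))
      have h3 := ih _ (by omega) _ hY' h' rfl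
      have h4 := (Lam0 B).add_mem h3 (wd_mem_lam0 hw)
      rwa [add_assoc, sp_dbl D, add_zero] at h4

/-! ### T1b -/

section dim

/-- the index set -/
abbrev TI (o : Fin m) : Type := {p : Fin m × Fin m // p.1 ≠ p.2} ⊕ {p : Fin m × Fin m // p ≠ (o, o)}

theorem card_TI (o : Fin m) : Fintype.card (TI o) = (m * m - m) + (m * m - 1) := by
  rw [Fintype.card_sum]
  congr 1
  · rw [Fintype.card_subtype]
    have h : (Finset.univ.filter fun p : Fin m × Fin m => p.1 ≠ p.2) = (Finset.univ : Finset (Fin m)).offDiag := by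
      ext p
      simp
    rw [h, Finset.offDiag_card, Finset.card_univ, Fintype.card_fin]
  · rw [Fintype.card_subtype_compl, Fintype.card_prod, Fintype.card_fin, Fintype.card_subtype_eq]

/-- the elements -/
noncomputable def uT (B : LinearMap.BilinForm K V) (b : Module.Basis (Fin m ⊕ Fin m) K V) (o : Fin m) :
    TI o → Module.End K V
  | Sum.inl p => if p.1.1 < p.1.2 then wd B (b (Sum.inl p.1.1)) (b (Sum.inl p.1.2)) else
      wd B (b (Sum.inr p.1.1)) (b (Sum.inr p.1.2))
  | Sum.inr p => if p.1.1 = p.1.2 then wd B (b (Sum.inl p.1.1)) (b (Sum.inr p.1.1)) +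
      wd B (b (Sum.inl o)) (b (Sum.inr o)) else wd B (b (Sum.inl p.1.1)) (b (Sum.inr p.1.2))

/-- the test vectors -/
noncomputable def xT (b : Module.Basis (Fin m ⊕ Fin m) K V) (o : Fin m) : TI o → V
  | Sum.inl p => if p.1.1 < p.1.2 then b (Sum.inr p.1.1) else b (Sum.inl p.1.1)
  | Sum.inr p => b (Sum.inr p.1.1)

/-- the test vectors -/
noncomputable def yT (b : Module.Basis (Fin m ⊕ Fin m) K V) (o : Fin m) : TI o → V
  | Sum.inl p => if p.1.1 < p.1.2 then b (Sum.inr p.1.2) else b (Sum.inl p.1.2)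
  | Sum.inr p => b (Sum.inl p.1.2)

theorem wd_form (v w x y : V) : B (wd B v w x) y = B w x * B v y + B v x * B w y := by
  rw [wd_apply, map_add, LinearMap.add_apply, map_smul, map_smul, LinearMap.smul_apply, LinearMap.smul_apply,
    smul_eq_mul, smul_eq_mul]

theorem key_uT (D : SpD m q F B ρ b) (o : Fin m) (s t : TI o) :
    B (uT B b o t (xT b o s)) (yT b o s) = if s = t then 1 else 0 := by
  have hrl : ∀ i j, B (b (Sum.inr i)) (b (Sum.inl j)) = if i = j then 1 else 0 := fun i j => by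
    rw [sp_swap D, D.lr]
    exact if_congr eq_comm rfl rfl
  rcases s with ⟨⟨i, j⟩, hs⟩ | ⟨⟨i, j⟩, hs⟩ <;> rcases t with ⟨⟨k, l⟩, ht⟩ | ⟨⟨k, l⟩, ht⟩
  · simp only [uT, xT, yT]
    by_cases h1 : i < j <;> by_cases h2 : k < l
    · simp only [h1, h2, if_true, wd_form, D.lr, Sum.inl.injEq, Subtype.mk.injEq, Prod.mk.injEq]
      have h3 : ¬ (l = i ∧ k = j) := by rintro ⟨rfl, rfl⟩; exact lt_asymm h1 h2
      clear hrl
      by_cases h4 : k = i <;> by_cases h5 : l = j <;> by_cases h6 : l = i <;> by_cases h7 : k = j <;>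
        simp_all [eq_comm]
    · have h3 : ¬ ((Sum.inl ⟨(i, j), hs⟩ : TI o) = Sum.inl ⟨(k, l), ht⟩) := by
        rw [Sum.inl.injEq, Subtype.mk.injEq, Prod.mk.injEq]
        rintro ⟨rfl, rfl⟩
        exact h2 h1
      simp only [h1, h2, if_true, if_false, wd_form, D.rr, h3, mul_zero, add_zero]
    · have h3 : ¬ ((Sum.inl ⟨(i, j), hs⟩ : TI o) = Sum.inl ⟨(k, l), ht⟩) := by
        rw [Sum.inl.injEq, Subtype.mk.injEq, Prod.mk.injEq]
        rintro ⟨rfl, rfl⟩
        exact h1 h2
      simp only [h1, h2, if_true, if_false, wd_form, D.ll, h3, mul_zero, add_zero]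
    · simp only [h1, h2, if_false, wd_form, hrl, Sum.inl.injEq, Subtype.mk.injEq, Prod.mk.injEq]
      have h3 : ¬ (l = i ∧ k = j) := by
        rintro ⟨rfl, rfl⟩
        exact hs (le_antisymm (not_lt.1 h2) (not_lt.1 h1))
      clear hrl
      by_cases h4 : k = i <;> by_cases h5 : l = j <;> by_cases h6 : l = i <;> by_cases h7 : k = j <;>
        simp_all [eq_comm]
  · simp only [uT, xT, yT, reduceCtorEq, if_false]
    by_cases h1 : i < j <;> by_cases h2 : k = l <;>
      simp only [h1, h2, if_true, if_false, wd_form, D.rr, D.ll, LinearMap.add_apply, map_add, mul_zero, zero_mul,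
        add_zero]
  · simp only [uT, xT, yT, reduceCtorEq, if_false]
    by_cases h2 : k < l <;>
      simp only [h2, if_true, if_false, wd_form, D.rr, D.ll, mul_zero, zero_mul, add_zero]
  · simp only [uT, xT, yT]
    by_cases h2 : k = l
    · subst h2
      have h3 : ¬ (o = i ∧ o = j) := by
        rintro ⟨rfl, rfl⟩
        exact hs rfl
      simp only [if_true, wd_form, D.rr, D.lr, hrl, LinearMap.add_apply, map_add, zero_mul, zero_add,
        Sum.inr.injEq, Subtype.mk.injEq, Prod.mk.injEq]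
      by_cases h4 : k = i <;> by_cases h5 : k = j <;> by_cases h6 : o = i <;> by_cases h7 : o = j <;>
        simp_all [eq_comm]
    · simp only [h2, if_false, wd_form, D.rr, D.lr, hrl, zero_mul, zero_add,
        Sum.inr.injEq, Subtype.mk.injEq, Prod.mk.injEq]
      by_cases h4 : k = i <;> by_cases h5 : l = j <;> simp_all [eq_comm]

theorem uT_mem (D : SpD m q F B ρ b) (o : Fin m) (t : TI o) : uT B b o t ∈ Lam0 B := by
  rcases t with ⟨⟨k, l⟩, ht⟩ | ⟨⟨k, l⟩, ht⟩
  · simp only [uT]
    split_ifs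
    · exact wd_mem_lam0 (D.ll _ _)
    · exact wd_mem_lam0 (D.rr _ _)
  · simp only [uT]
    split_ifs with h
    · by_cases hk : k = o
      · subst hk
        subst h
        exact absurd rfl ht
      · have e : wd B (b (Sum.inl k)) (b (Sum.inr k)) + wd B (b (Sum.inl o)) (b (Sum.inr o)) =
            wd B (b (Sum.inl k) + b (Sum.inl o)) (b (Sum.inr k) + b (Sum.inr o)) +
              (wd B (b (Sum.inl k)) (b (Sum.inr o)) + wd B (b (Sum.inl o)) (b (Sum.inr k))) := by
          have e1 : ∀ v v' w w' : V, wd B (v + v') (w + w') =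
              (wd B v w + wd B v' w') + (wd B v w' + wd B v' w) := fun v v' w w' => by
            refine LinearMap.ext fun x => ?_
            simp only [wd_apply, LinearMap.add_apply, map_add]
            module
          rw [e1, add_assoc, sp_dbl D, add_zero]
        rw [e]
        refine (Lam0 B).add_mem (wd_mem_lam0 ?_) ((Lam0 B).add_mem (wd_mem_lam0 ?_) (wd_mem_lam0 ?_))
        · simp only [map_add, LinearMap.add_apply, D.lr, if_true, hk, Ne.symm hk, if_false, add_zero, zero_add]
          exact sp_dbl D (1 : K)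
        · rw [D.lr, if_neg hk]
        · rw [D.lr, if_neg (Ne.symm hk)]
    · exact wd_mem_lam0 (by rw [D.lr, if_neg h])

/-- **T1b** -/
theorem le_finrank_lam0 (D : SpD m q F B ρ b) : 2 * m ^ 2 - m - 1 ≤ Module.finrank K (Lam0 B) := by
  have hfd := V_fd b
  have hm := D.two_le
  let o : Fin m := ⟨0, by omega⟩
  have hli : LinearIndependent K fun t : TI o => (⟨uT B b o t, uT_mem D o t⟩ : Lam0 B) := by
    rw [Fintype.linearIndependent_iff]
    intro a ha s
    have h1 : ∑ t, a t • uT B b o t = 0 := by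
      have := congrArg (Lam0 B).subtype ha
      rw [map_sum, map_zero] at this
      exact this
    have h2 := congrArg (fun X : Module.End K V => B (X (xT b o s)) (yT b o s)) h1
    simp only [LinearMap.sum_apply, map_sum, LinearMap.smul_apply, map_smul, LinearMap.zero_apply, map_zero,
      key_uT D, smul_eq_mul, mul_ite, mul_one, mul_zero, Finset.sum_ite_eq, Finset.mem_univ, if_true] at h2
    exact h2
  have h1 := hli.fintype_card_le_finrank
  rw [card_TI] at h1
  have h2 : m ≤ m * m := Nat.le_mul_of_pos_left m (by omega)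
  rw [pow_two]
  omega

end dim

end Cfsg.Agent.H601.BR
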